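import Mathlib.RingTheory.LocalRing.ResidueField.Basic
import Mathlib.RingTheory.RootsOfUnity.PrimitiveRoots
import Mathlib.GroupTheory.Sylow
import Mathlib.GroupTheory.Perm.Cycle.Type
import Mathlib.Algebra.CharP.Lemmas
import Mathlib.Algebra.Ring.Action.Basic
import Mathlib.Algebra.BigOperators.Intervals
import Mathlib.Tactic.LinearCombination

/-! The tame character of an inertia group fixing all principal ideals. -/

namespace Groth.Agent.InertiaTame

open IsLocalRing

variable {B : Type*} [CommRing B] [IsLocalRing B] {Γ : Type*} [Group Γ] [MulSemiringAction Γ B]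

theorem residue_unique {b u v : B} (hb : b ≠ 0) (h : b * u = b * v) : residue B u = residue B v := by
  rw [← sub_eq_zero, ← map_sub, residue_eq_zero_iff]
  intro hu
  refine hb (hu.mul_left_eq_zero.1 ?_)
  rw [mul_sub, h, sub_self]

variable (hin : ∀ (γ : Γ) (b : B), γ • b - b ∈ maximalIdeal B)
  (hst : ∀ (γ : Γ) (b : B), ∃ u : B, γ • b = b * u)

/-- `γ ↦ (γ b) / b` in the residue field. -/
noncomputable def chi (b : B) (hb : b ≠ 0) : Γ →* ResidueField B where
  toFun γ := residue B (hst γ b).choose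
  map_one' := by
    rw [← map_one (residue B)]
    refine residue_unique hb ?_
    rw [← (hst 1 b).choose_spec, one_smul, mul_one]
  map_mul' γ δ := by
    set u := (hst γ b).choose
    set u' := (hst δ b).choose
    have h : b * (hst (γ * δ) b).choose = b * (u * γ • u') := by
      rw [← (hst (γ * δ) b).choose_spec, mul_smul, (hst δ b).choose_spec, smul_mul',
        (hst γ b).choose_spec, mul_assoc]
    rw [residue_unique hb h, map_mul]
    congr 1
    rw [← sub_eq_zero, ← map_sub, residue_eq_zero_iff]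
    exact hin γ u'

variable (S : Set Γ) (hS : ∀ γ : Γ, γ ∈ S ↔ ∀ b : B, ∃ x ∈ maximalIdeal B, γ • b = b + b * x)

include hin hst hS

theorem mem_iff (γ : Γ) : γ ∈ S ↔ ∀ (b : B) (hb : b ≠ 0), chi hin hst b hb γ = 1 := by
  rw [hS]
  refine ⟨fun h b hb => ?_, fun h b => ?_⟩
  · obtain ⟨x, hx, hγ⟩ := h b
    change residue B (hst γ b).choose = 1
    rw [residue_unique hb (v := 1 + x) (by rw [← (hst γ b).choose_spec, hγ]; ring), map_add, map_one,
      (residue_eq_zero_iff x).2 hx, add_zero]
  · rcases eq_or_ne b 0 with rfl | hb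
    · exact ⟨0, zero_mem _, by simp⟩
    · refine ⟨(hst γ b).choose - 1, ?_, ?_⟩
      · rw [← residue_eq_zero_iff, map_sub, map_one, sub_eq_zero]; exact h b hb
      · refine (hst γ b).choose_spec.trans ?_; ring

theorem one_of_isUnit [FaithfulSMul Γ B] {γ : Γ} (hγ : γ ∈ S) {n : ℕ} (hn : IsUnit (n : B))
    (hpow : γ ^ n = 1) : γ = 1 := by
  refine eq_of_smul_eq_smul (α := B) fun b => ?_
  rw [one_smul]
  set d := γ • b - b with hd
  have hsum : ∑ i ∈ Finset.range n, γ ^ i • d = 0 := by
    have : ∀ i, γ ^ i • d = γ ^ (i + 1) • b - γ ^ i • b := fun i => by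
      rw [hd, smul_sub, smul_smul, ← pow_succ]
    simp only [this, Finset.sum_range_sub (fun i => γ ^ i • b), hpow, pow_zero, sub_self]
  have hmem : ∀ i : ℕ, ∃ x ∈ maximalIdeal B, γ ^ i • d = d + d * x := by
    intro i
    refine (hS _).1 ?_ d
    rw [mem_iff hin hst S hS] at hγ ⊢
    intro c hc
    rw [map_pow, hγ c hc, one_pow]
  choose x hx hxd using hmem
  have h2 : d * ((n : B) + ∑ i ∈ Finset.range n, x i) = 0 := by
    rw [← hsum, mul_add, Finset.mul_sum]
    simp only [hxd, Finset.sum_add_distrib, Finset.sum_const, Finset.card_range, nsmul_eq_mul]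
    ring
  have hu : IsUnit ((n : B) + ∑ i ∈ Finset.range n, x i) := by
    by_contra hc
    have h3 : (n : B) ∈ maximalIdeal B := by
      have h4 : (n : B) + ∑ i ∈ Finset.range n, x i ∈ maximalIdeal B := hc
      have h5 : ∑ i ∈ Finset.range n, x i ∈ maximalIdeal B := sum_mem fun i _ => hx i
      have h6 := sub_mem h4 h5
      rwa [add_sub_cancel_right] at h6
    exact h3 hn
  exact sub_eq_zero.1 (hu.mul_left_eq_zero.1 h2)

theorem main [FaithfulSMul Γ B] [Finite Γ] :
    (ringChar (ResidueField B) = 0 → S = {1}) ∧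
      (∀ (p : ℕ) [Fact p.Prime], ringChar (ResidueField B) = p → ∃ Q : Sylow p Γ, (Q : Set Γ) = S) ∧
      (∀ γ δ : Γ, γ * δ * γ⁻¹ * δ⁻¹ ∈ S) ∧
      (∀ (γ : Γ) (n : ℕ), 0 < n → γ ^ n ∈ S → (∀ i : ℕ, 0 < i → i < n → γ ^ i ∉ S) →
        ∃ ζ : ResidueField B, IsPrimitiveRoot ζ n) := by
  have hunit : ∀ n : ℕ, (n : ResidueField B) ≠ 0 → IsUnit (n : B) := fun n hn => by
    by_contra h
    exact hn (by rw [← map_natCast (residue B)]; exact (residue_eq_zero_iff _).2 h)
  have hmem := mem_iff hin hst S hS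
  let χ : {b : B // b ≠ 0} → (Γ →* (ResidueField B)ˣ) := fun b => (chi hin hst b.1 b.2).toHomUnits
  let H : Subgroup Γ := ⨅ b, (χ b).ker
  have hH : ∀ γ, γ ∈ H ↔ γ ∈ S := fun γ => by
    rw [hmem]
    simp only [H, Subgroup.mem_iInf, MonoidHom.mem_ker, χ, Units.ext_iff, Subtype.forall]
    rfl
  haveI : H.Normal := Subgroup.normal_iInf_normal fun b => (χ b).normal_ker
  refine ⟨fun h0 => ?_, fun p hp hchar => ?_, fun γ δ => ?_, fun γ n hn hγn hmin => ?_⟩
  · haveI : CharZero (ResidueField B) := (CharP.ringChar_zero_iff_CharZero _).1 h0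
    refine Set.eq_singleton_iff_unique_mem.2 ⟨(hH 1).1 H.one_mem, fun γ hγ => ?_⟩
    exact one_of_isUnit hin hst S hS hγ
      (hunit _ (Nat.cast_ne_zero.2 (orderOf_pos γ).ne')) (pow_orderOf_eq_one γ)
  · haveI : CharP (ResidueField B) p := hchar ▸ ringChar.charP _
    haveI : ExpChar (ResidueField B) p := .prime hp.out
    have hP : IsPGroup p H := by
      intro g
      obtain ⟨e, m, hm, he⟩ := Nat.exists_eq_pow_mul_and_not_dvd (orderOf_pos (g : Γ)).ne' p hp.out.ne_one
      refine ⟨e, Subtype.ext ?_⟩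
      rw [Subgroup.coe_pow, Subgroup.coe_one]
      refine one_of_isUnit hin hst S hS ((hH _).1 (H.pow_mem g.2 _)) (n := m) (hunit m ?_) ?_
      · rwa [Ne, CharP.cast_eq_zero_iff _ p]
      · rw [← pow_mul, ← he, pow_orderOf_eq_one]
    have hidx : ¬ p ∣ H.index := by
      intro hdvd
      rw [Subgroup.index_eq_card] at hdvd
      obtain ⟨q, hq⟩ := exists_prime_orderOf_dvd_card' p hdvd
      obtain ⟨γ, rfl⟩ := QuotientGroup.mk_surjective q
      have hγp : γ ^ p ∈ H := by
        rw [← QuotientGroup.eq_one_iff, QuotientGroup.mk_pow, ← hq, pow_orderOf_eq_one]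
      have hγ : γ ∈ H := by
        rw [hH, hmem]
        intro b hb
        have h1 : chi hin hst b hb γ ^ p = 1 := by
          rw [← map_pow]; exact (hmem _).1 ((hH _).1 hγp) b hb
        exact frobenius_inj (ResidueField B) p (by rw [frobenius_def, frobenius_def, h1, one_pow])
      rw [(QuotientGroup.eq_one_iff γ).2 hγ, orderOf_one] at hq
      exact hp.out.one_lt.ne hq
    exact ⟨hP.toSylow hidx, Set.ext fun γ => hH γ⟩
  · rw [← hH]
    simp only [H, Subgroup.mem_iInf, MonoidHom.mem_ker, map_mul, map_inv]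
    intro b
    rw [mul_right_comm (χ b γ), mul_inv_cancel, one_mul, mul_inv_cancel]
  · haveI : NeZero n := ⟨hn.ne'⟩
    obtain ⟨g, hg⟩ := IsCyclic.exists_generator (α := rootsOfUnity n (ResidueField B))
    have hd : orderOf g ∣ n := orderOf_dvd_of_pow_eq_one (Subtype.ext (by
      rw [SubmonoidClass.coe_pow, OneMemClass.coe_one]
      exact (mem_rootsOfUnity n _).1 g.2))
    have hdpos : 0 < orderOf g := Nat.pos_of_dvd_of_pos hd hn
    have hpow : γ ^ orderOf g ∈ S := by
      rw [← hH]
      simp only [H, Subgroup.mem_iInf, MonoidHom.mem_ker]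
      intro b
      have hmemr : χ b γ ∈ rootsOfUnity n (ResidueField B) := by
        rw [mem_rootsOfUnity, ← map_pow]
        have h := (hH _).2 hγn
        simp only [H, Subgroup.mem_iInf, MonoidHom.mem_ker] at h
        exact h b
      obtain ⟨j, hj⟩ := Subgroup.mem_zpowers_iff.1 (hg ⟨_, hmemr⟩)
      rw [map_pow, show χ b γ = ((g ^ j : rootsOfUnity n (ResidueField B)) : (ResidueField B)ˣ) by rw [hj],
        ← SubmonoidClass.coe_pow, ← zpow_natCast (g ^ j), zpow_comm, zpow_natCast, pow_orderOf_eq_one,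
        one_zpow, OneMemClass.coe_one]
    have hdn : orderOf g = n := by
      rcases (Nat.le_of_dvd hn hd).lt_or_eq with h | h
      · exact absurd hpow (hmin _ hdpos h)
      · exact h
    refine ⟨((g : (ResidueField B)ˣ) : ResidueField B), ?_⟩
    have := IsPrimitiveRoot.orderOf ((g : (ResidueField B)ˣ) : ResidueField B)
    rwa [orderOf_units, Subgroup.orderOf_coe, hdn] at this

end Groth.Agent.InertiaTame
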